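import Groth.Agent.EtAlg.K405.Ctx

/-!
# N3 of the refutation of S7162: the Gauss norm

If the residues `e' i` of the `e i` are linearly independent over a field of representatives `κ` of the residue
field of `N`, then `‖∑ a j * e j‖ = max ‖a j‖` for coefficients `a j` in `N`.
-/

set_option autoImplicit false

namespace K589.RefN3

open Groth.Agent.Etalg.EppFrame

variable {Ω : Type} [NormedField Ω] [IsUltrametricDist Ω]

theorem norm_eq_of_sub_lt {x y : Ω} (h : ‖x - y‖ < ‖y‖) : ‖x‖ = ‖y‖ := by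
  by_contra hne
  have h1 := IsUltrametricDist.norm_add_eq_max_of_norm_ne_norm (x := x) (y := -y) (by rwa [norm_neg])
  rw [← sub_eq_add_neg, norm_neg] at h1
  rw [h1] at h
  exact absurd (le_max_right ‖x‖ ‖y‖) (not_le.2 h)

/-- the norm of the sum is the largest norm of a coefficient -/
theorem norm_sum_eq {N κ Λ : Subfield Ω} (hΛ : ∀ x ∈ Λ, x ≠ 0 → ‖x‖ = 1) (hκ : κ ≤ Λ)
    (hres : ∀ x ∈ N, ‖x‖ ≤ 1 → ∃ a ∈ κ, ‖x - a‖ < 1) {ι : Type} [Fintype ι] (e e' : ι → Ω)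
    (he' : ∀ i, e' i ∈ Λ) (hli : LinearIndependent κ e') (he : ∀ i, ‖e i - e' i‖ < 1)
    (a : ι → Ω) (ha : ∀ i, a i ∈ N) (m : ι) (hm : ∀ j, ‖a j‖ ≤ ‖a m‖) (hm0 : a m ≠ 0) :
    ‖∑ j, a j * e j‖ = ‖a m‖ := by
  have hb1 : ∀ j, ‖a j / a m‖ ≤ 1 := fun j => by
    rw [norm_div]
    exact div_le_one_of_le₀ (hm j) (norm_nonneg _)
  have hex : ∀ j, ∃ c ∈ κ, ‖a j / a m - c‖ < 1 := fun j => hres _ (N.div_mem (ha j) (ha m)) (hb1 j)
  choose c hcκ hc using hex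
  -- the reduced sum is not zero
  have hne : ∑ j, c j * e' j ≠ 0 := by
    intro h0
    have h1 : ∑ j, (⟨c j, hcκ j⟩ : κ) • e' j = 0 := by
      rw [← h0]
      exact Finset.sum_congr rfl fun j _ => rfl
    have h2 := Fintype.linearIndependent_iff.1 hli _ h1 m
    have h3 : c m = 0 := congrArg Subtype.val h2
    have h4 := hc m
    rw [h3, div_self hm0, sub_zero, norm_one] at h4
    exact lt_irrefl _ h4
  have hΛm : ∑ j, c j * e' j ∈ Λ := Subfield.sum_mem _ fun j _ => Λ.mul_mem (hκ (hcκ j)) (he' j)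
  have h1 : ‖∑ j, c j * e' j‖ = 1 := hΛ _ hΛm hne
  have he1 : ∀ j, ‖e' j‖ ≤ 1 := fun j => by
    by_cases h : e' j = 0
    · rw [h, norm_zero]; exact zero_le_one
    · exact (hΛ _ (he' j) h).le
  -- the difference is small
  have hd : ‖∑ j, a j / a m * e j - ∑ j, c j * e' j‖ < 1 := by
    rw [← Finset.sum_sub_distrib]
    have hlt : ∀ j, ‖a j / a m * e j - c j * e' j‖ < 1 := fun j => by
      have : a j / a m * e j - c j * e' j = a j / a m * (e j - e' j) + (a j / a m - c j) * e' j := by ring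
      rw [this]
      refine lt_of_le_of_lt (IsUltrametricDist.norm_add_le_max _ _) (max_lt ?_ ?_)
      · rw [norm_mul]
        exact lt_of_le_of_lt (mul_le_of_le_one_left (norm_nonneg _) (hb1 j)) (he j)
      · rw [norm_mul]
        exact lt_of_le_of_lt (mul_le_of_le_one_right (norm_nonneg _) (he1 j)) (hc j)
    have : Nonempty ι := ⟨m⟩
    obtain ⟨j, -, hj⟩ := IsUltrametricDist.exists_norm_finsetSum_le_of_nonempty
      (t := (Finset.univ : Finset ι)) Finset.univ_nonempty (fun j => a j / a m * e j - c j * e' j)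
    exact lt_of_le_of_lt hj (hlt j)
  have h2 : ‖∑ j, a j / a m * e j‖ = 1 := by
    rw [← h1]
    apply norm_eq_of_sub_lt
    rw [h1]
    exact hd
  have h3 : ∑ j, a j * e j = a m * ∑ j, a j / a m * e j := by
    rw [Finset.mul_sum]
    refine Finset.sum_congr rfl fun j _ => ?_
    rw [← mul_assoc, mul_div_cancel₀ _ hm0]
  rw [h3, norm_mul, h2, mul_one]

theorem N3_gauss {N κ Λ : Subfield Ω} (hΛ : ∀ x ∈ Λ, x ≠ 0 → ‖x‖ = 1) (hκ : κ ≤ Λ)
    (hres : ∀ x ∈ N, ‖x‖ ≤ 1 → ∃ a ∈ κ, ‖x - a‖ < 1) {ι : Type} [Fintype ι] (e e' : ι → Ω)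
    (he' : ∀ i, e' i ∈ Λ) (hli : LinearIndependent κ e') (he : ∀ i, ‖e i - e' i‖ < 1)
    (a : ι → Ω) (ha : ∀ i, a i ∈ N) (i : ι) : ‖a i‖ ≤ ‖∑ j, a j * e j‖ := by
  have : Nonempty ι := ⟨i⟩
  obtain ⟨m, hm⟩ := Finite.exists_max fun j => ‖a j‖
  by_cases hm0 : a m = 0
  · have h := hm i
    rw [hm0, norm_zero] at h
    exact h.trans (norm_nonneg _)
  · rw [norm_sum_eq hΛ hκ hres e e' he' hli he a ha m hm hm0]
    exact hm i

theorem N3_norm_mem {N κ Λ : Subfield Ω} (hΛ : ∀ x ∈ Λ, x ≠ 0 → ‖x‖ = 1) (hκ : κ ≤ Λ)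
    (hres : ∀ x ∈ N, ‖x‖ ≤ 1 → ∃ a ∈ κ, ‖x - a‖ < 1) {ι : Type} [Fintype ι] (e e' : ι → Ω)
    (he' : ∀ i, e' i ∈ Λ) (hli : LinearIndependent κ e') (he : ∀ i, ‖e i - e' i‖ < 1)
    (a : ι → Ω) (ha : ∀ i, a i ∈ N) : ∃ y ∈ N, ‖y‖ = ‖∑ j, a j * e j‖ := by
  rcases isEmpty_or_nonempty ι with hι | hι
  · exact ⟨0, N.zero_mem, by simp⟩
  obtain ⟨m, hm⟩ := Finite.exists_max fun j => ‖a j‖
  by_cases hm0 : a m = 0
  · refine ⟨0, N.zero_mem, ?_⟩
    have h : ∀ j, a j = 0 := fun j => by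
      have h := hm j
      rw [hm0, norm_zero] at h
      exact norm_le_zero_iff.1 h
    simp [h]
  · exact ⟨a m, ha m, (norm_sum_eq hΛ hκ hres e e' he' hli he a ha m hm hm0).symm⟩

end K589.RefN3
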