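import Groth.Agent.EtAlg.K589.RefN3

/-!
# N12 of the refutation of S7162: the fundamental inequality `e * f ≤ [E : F]`
-/

set_option autoImplicit false

namespace K589.RefN12

open Groth.Agent.Etalg.EppFrame

variable {Ω : Type} [NormedField Ω] [IsUltrametricDist Ω]

theorem norm_pow_sub_pow_lt {w ω : Ω} (hω : ‖ω‖ ≤ 1) (hw : ‖w‖ ≤ 1) (h : ‖w - ω‖ < 1) (j : ℕ) :
    ‖w ^ j - ω ^ j‖ < 1 := by
  induction j with
  | zero => simp
  | succ j ih =>
    have : w ^ (j + 1) - ω ^ (j + 1) = w ^ j * (w - ω) + (w ^ j - ω ^ j) * ω := by ring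
    rw [this]
    refine lt_of_le_of_lt (IsUltrametricDist.norm_add_le_max _ _) (max_lt ?_ ?_)
    · rw [norm_mul, norm_pow]
      exact lt_of_le_of_lt (mul_le_of_le_one_left (norm_nonneg _) (pow_le_one₀ (norm_nonneg _) hw)) h
    · rw [norm_mul]
      exact lt_of_le_of_lt (mul_le_of_le_one_right (norm_nonneg _) hω) ih

/-- a sum with a strictly dominating term is not zero -/
theorem sum_ne_zero {ι : Type} [Fintype ι] (x : ι → Ω) (i : ι) (hi : x i ≠ 0)
    (h : ∀ j, j ≠ i → ‖x j‖ < ‖x i‖) : ∑ j, x j ≠ 0 := by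
  classical
  intro h0
  rw [← Finset.add_sum_erase _ _ (Finset.mem_univ i)] at h0
  have h1 : ‖∑ j ∈ Finset.univ.erase i, x j‖ < ‖x i‖ := by
    rcases (Finset.univ.erase i).eq_empty_or_nonempty with he | he
    · rw [he, Finset.sum_empty, norm_zero]
      exact norm_pos_iff.2 hi
    · obtain ⟨j, hj, hj'⟩ := IsUltrametricDist.exists_norm_finsetSum_le_of_nonempty he x
      exact lt_of_le_of_lt hj' (h j (Finset.ne_of_mem_erase hj))
  rw [← neg_eq_of_add_eq_zero_right h0, norm_neg] at h1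
  exact lt_irrefl _ h1

theorem N12_ef {F E κ Λ : Subfield Ω} (hFE : F ≤ E) (hfin : F.relfinrank E ≠ 0) (hΛ : ∀ x ∈ Λ, x ≠ 0 → ‖x‖ = 1)
    (hκ : κ ≤ Λ) (hres : ∀ x ∈ F, ‖x‖ ≤ 1 → ∃ a ∈ κ, ‖x - a‖ < 1) {t ϖ w ω : Ω} (hd : Disc F t) (hϖ : ϖ ∈ E)
    (h0 : 0 < ‖ϖ‖) (h1 : ‖ϖ‖ < 1) {e n : ℕ} (he : ‖t‖ = ‖ϖ‖ ^ e) (hw : w ∈ E) (hω : ω ∈ Λ) (hwω : ‖w - ω‖ < 1)
    (hli : LinearIndependent κ (fun j : Fin n => ω ^ (j : ℕ))) : e * n ≤ F.relfinrank E := by
  have hω1 : ‖ω‖ ≤ 1 := by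
    by_cases h : ω = 0
    · rw [h, norm_zero]; exact zero_le_one
    · exact (hΛ _ hω h).le
  have hw1 : ‖w‖ ≤ 1 := by
    have : w = (w - ω) + ω := by ring
    rw [this]
    exact (IsUltrametricDist.norm_add_le_max _ _).trans (max_le hwω.le hω1)
  have hϖ0 : ϖ ≠ 0 := norm_pos_iff.1 h0
  have hωm : ∀ j : Fin n, ω ^ (j : ℕ) ∈ Λ := fun j => Λ.pow_mem hω _
  have hpow : ∀ j : Fin n, ‖w ^ (j : ℕ) - ω ^ (j : ℕ)‖ < 1 := fun j => norm_pow_sub_pow_lt hω1 hw1 hwω j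
  -- the key statement
  have key : ∀ a : Fin e → Fin n → Ω, (∀ i j, a i j ∈ F) →
      ∑ i : Fin e, ϖ ^ (i : ℕ) * ∑ j : Fin n, a i j * w ^ (j : ℕ) = 0 →
      ∀ i j, a i j = 0 := by
    intro a ha hsum
    set y : Fin e → Ω := fun i => ∑ j : Fin n, a i j * w ^ (j : ℕ) with hy
    have hyn : ∀ i, y i ≠ 0 → ∃ m : ℤ, ‖y i‖ = ‖ϖ‖ ^ ((e : ℤ) * m) := by
      intro i hi
      obtain ⟨b, hb, hbn⟩ := RefN3.N3_norm_mem hΛ hκ hres _ _ hωm hli hpow (a i) (ha i)
      have hb0 : b ≠ 0 := by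
        rintro rfl
        rw [norm_zero] at hbn
        exact hi (norm_eq_zero.1 hbn.symm)
      obtain ⟨m, hm⟩ := hd.2.2 b hb hb0
      refine ⟨m, ?_⟩
      rw [hy]
      simp only
      rw [← hbn, hm, he, ← zpow_natCast, ← zpow_mul]
    have hy0 : ∀ i, y i = 0 := by
      by_contra hcon
      push Not at hcon
      obtain ⟨i₁, hi₁⟩ := hcon
      have : Nonempty (Fin e) := ⟨i₁⟩
      obtain ⟨i, hi⟩ := Finite.exists_max fun i : Fin e => ‖ϖ ^ (i : ℕ) * y i‖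
      have hyi : y i ≠ 0 := by
        intro h
        have h2 := hi i₁
        rw [h, mul_zero, norm_zero] at h2
        have h3 := norm_le_zero_iff.1 h2
        rcases mul_eq_zero.1 h3 with h4 | h4
        · exact pow_ne_zero _ hϖ0 h4
        · exact hi₁ h4
      refine sum_ne_zero (fun i : Fin e => ϖ ^ (i : ℕ) * y i) i (mul_ne_zero (pow_ne_zero _ hϖ0) hyi) (fun j hj => ?_) hsum
      refine lt_of_le_of_ne (hi j) fun heq => hj ?_
      have hyj : y j ≠ 0 := by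
        intro h
        rw [h, mul_zero, norm_zero] at heq
        exact mul_ne_zero (pow_ne_zero _ hϖ0) hyi (norm_eq_zero.1 heq.symm)
      obtain ⟨m, hm⟩ := hyn i hyi
      obtain ⟨m', hm'⟩ := hyn j hyj
      rw [norm_mul, norm_mul, hm, hm', norm_pow, norm_pow, ← zpow_natCast, ← zpow_natCast,
        ← zpow_add₀ h0.ne', ← zpow_add₀ h0.ne'] at heq
      have h5 := zpow_right_injective₀ h0 h1.ne heq
      have hi' := i.2
      have hj' := j.2
      have h6 : ((j : ℕ) : ℤ) ≡ ((i : ℕ) : ℤ) [ZMOD (e : ℤ)] := by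
        rw [Int.modEq_iff_dvd]
        exact ⟨m' - m, by linarith⟩
      have h7 : (j : ℕ) ≡ (i : ℕ) [MOD e] := by
        exact (Int.natCast_modEq_iff).1 h6
      exact Fin.ext (Nat.ModEq.eq_of_lt_of_lt h7 hj' hi')
    intro i j
    have h2 := RefN3.N3_gauss hΛ hκ hres _ _ hωm hli hpow (a i) (ha i) j
    have h3 : ∑ j : Fin n, a i j * w ^ (j : ℕ) = 0 := hy0 i
    rw [h3, norm_zero] at h2
    exact norm_le_zero_iff.1 h2
  -- count
  rw [Subfield.relfinrank_eq_finrank_of_le hFE] at hfin ⊢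
  have : FiniteDimensional F (Subfield.extendScalars hFE) := FiniteDimensional.of_finrank_pos (Nat.pos_of_ne_zero hfin)
  let v : Fin e × Fin n → Subfield.extendScalars hFE := fun p =>
    ⟨ϖ ^ (p.1 : ℕ) * w ^ (p.2 : ℕ), E.mul_mem (E.pow_mem hϖ _) (E.pow_mem hw _)⟩
  have hv : LinearIndependent F v := by
    rw [Fintype.linearIndependent_iff]
    intro g hg p
    have h2 := congrArg (fun x : Subfield.extendScalars hFE => (x : Ω)) hg
    have h3 : ∑ p : Fin e × Fin n, (g p : Ω) * (ϖ ^ (p.1 : ℕ) * w ^ (p.2 : ℕ)) = 0 := by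
      rw [← ZeroMemClass.coe_zero (Subfield.extendScalars hFE), ← h2]
      simp only [AddSubmonoidClass.coe_finsetSum]
      exact Finset.sum_congr rfl fun p _ => rfl
    rw [Fintype.sum_prod_type] at h3
    have h4 := key (fun i j => (g (i, j) : Ω)) (fun i j => (g (i, j)).2) (by
      rw [← h3]
      refine Finset.sum_congr rfl fun i _ => ?_
      rw [Finset.mul_sum]
      exact Finset.sum_congr rfl fun j _ => by ring) p.1 p.2
    exact Subtype.ext h4
  have hcard := hv.fintype_card_le_finrank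
  simpa using hcard

end K589.RefN12
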